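import Cfsg.Agent.H129.TorusUntw
import Cfsg.Agent.H378.TorDual
set_option linter.all false

/-!
# Embedding of prime-to-`d` parts of maximal tori in `D.group F` (helper130)

On top of `H129.TorusUntw` and `H378.TorDual`.

* `norm_torus` : torus elements fixed by Frobenius normalise the image of `D.group F`;
* `mem_range_of_pow` : a fixed element of order prime to `d` is in the image of `D.group F`;
* `exists_hom` : an abelian group of exponent prime to `d` which embeds in `ℤ^l / (w - q)` embeds in `D.group F`.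
-/

set_option autoImplicit false
set_option linter.unusedSectionVars false

namespace Cfsg.Agent.H130.TorEmb

open CoxeterSystem Cfsg Cfsg.Lie Cfsg.Lie.ChevalleyDatum
open Cfsg.Agent.ChevalleyStructure Cfsg.Agent.ChevalleyStructure.Elts Cfsg.Agent.ChevalleyStructure.CoxeterGeom
  Cfsg.Agent.ChevalleyStructure.CoxeterGeomTypes Cfsg.Agent.ChevalleyStructure.NPerm
open Cfsg.Agent.Tits.Roots Cfsg.Agent.Tits.Core Cfsg.Agent.Nodes Cfsg.Agent.Nodes.Reps Cfsg.Agent.Nodes.BNOf
  Cfsg.Agent.Nodes.RGDChev Cfsg.Agent.Nodes.Bruhat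
open Cfsg.Agent.KFacts.RgdField Cfsg.Agent.KFacts.RgdChevCoord Cfsg.Agent.BpExc.TorCent Cfsg.Agent.BpExc.TorChev
open Cfsg.Agent.GpExc.Field Cfsg.Agent.BpExc.Tow Cfsg.Agent.BpExc.TowChev Cfsg.Agent.BpExc.Fr
  Cfsg.Agent.BpExc.LangFr Cfsg.Agent.LangThm Cfsg.Agent.BpExc Cfsg.Agent.H129.TorusChar Cfsg.Agent.H129.TorusMain
  Cfsg.Agent.H129.TorusUntw Cfsg.Agent.ChevStructure.FieldMap Cfsg.Agent.BpExc.EmbSplit
open Cfsg.Agent.H378.TorDual

universe u v

variable {D : ChevalleyDatum} {l : ℕ} {M : CoxeterMatrix (Fin l)} (hp : IsType D l M)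
  {W : Type*} [Group W] (cs : CoxeterSystem M W)

section Ind

variable {F : Type u} [Field F]

/-- conditions on the root elements are enough (copy of `BpExc.FamExt.group_induction`) -/
theorem group_induction {P : ↥(D.group F) → Prop} (h1 : P 1) (hm : ∀ a b, P a → P b → P (a * b))
    (hi : ∀ a, P a → P a⁻¹) (hx : ∀ r, r < D.nroots → ∀ t, P (xc hp (vec D l r) t)) (g : ↥(D.group F)) : P g := by
  let S : Subgroup ↥(D.group F) :=
    { carrier := {g | P g}
      one_mem' := h1
      mul_mem' := fun {a b} ha hb => hm a b ha hb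
      inv_mem' := fun {a} ha => hi a ha }
  have h2 : D.group F ≤ S.map (D.group F).subtype := by
    rw [group_le_iff hp.inList]
    intro r hr t
    refine ⟨xc hp (vec D l r) t, hx r hr t, ?_⟩
    exact coe_xc hp hr t
  obtain ⟨g', hg', e⟩ := h2 g.2
  have h3 : g' = g := Subtype.ext e
  rw [← h3]
  exact hg'

end Ind

section Fix

variable {k : Type u} [Field k] [IsAlgClosed k] {p e : ℕ} [Fact p.Prime] [CharP k p]
  {F : Type u} [Field F] [Fintype F] (f : F →+* k)

include cs in
/-- torus elements fixed by Frobenius normalise the image of `D.group F` -/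
theorem norm_torus (hq : Fintype.card F = p ^ e) {t : ↥(D.group k)} (ht : t ∈ TT D k) (hf : phi D k p e t = t)
    (y : ↥(D.group F)) : t * emb hp.inList f y * t⁻¹ ∈ (emb hp.inList f).range := by
  induction y using group_induction hp with
  | h1 => rw [map_one, mul_one, mul_inv_cancel]; exact one_mem _
  | hm a b ha hb =>
    have : t * emb hp.inList f (a * b) * t⁻¹ = (t * emb hp.inList f a * t⁻¹) * (t * emb hp.inList f b * t⁻¹) := by
      rw [map_mul]; group
    rw [this]
    exact mul_mem ha hb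
  | hi a ha =>
    have : t * emb hp.inList f a⁻¹ * t⁻¹ = (t * emb hp.inList f a * t⁻¹)⁻¹ := by
      rw [map_inv]; group
    rw [this]
    exact inv_mem ha
  | hx r hr s =>
    rw [Cfsg.Agent.BpExc.TowChev.emb_xc hp f, (act hp hr ht).2, ← cX_vec hp ht hr]
    obtain ⟨b, hb⟩ := fix_cX hp cs f hq ht hf (vec D l r)
    rw [← hb, ← map_mul, ← Cfsg.Agent.BpExc.TowChev.emb_xc hp f]
    exact ⟨_, rfl⟩

include cs in
/-- **a fixed element of order prime to `d` is in the image of `D.group F`** -/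
theorem mem_range_of_pow (hq : Fintype.card F = p ^ e) {d : ℕ} {B : Fin l → Fin l → ℤ} (hB : InvC D l d B)
    (hd : d ≠ 0) {m : ℕ} (hm : m.Coprime d) {y : ↥(D.group k)} (hy : phi D k p e y = y) (hym : y ^ m = 1) :
    y ∈ (emb hp.inList f).range := by
  obtain ⟨x, t, ht, hyx⟩ := fix_split hp f hq hy
  have hf : phi D k p e t = t := by
    have h1 := hy
    rw [hyx, map_mul, phi_emb hp f hq] at h1
    exact mul_left_cancel h1
  have hpow : ∀ n : ℕ, ∃ x' : ↥(D.group F), y ^ n = emb hp.inList f x' * t ^ n := by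
    intro n
    induction n with
    | zero => exact ⟨1, by rw [pow_zero, pow_zero, map_one, mul_one]⟩
    | succ n ih =>
      obtain ⟨x', hx'⟩ := ih
      obtain ⟨x'', hx''⟩ := norm_torus hp cs f hq (pow_mem ht n) (by rw [map_pow, hf]) x
      refine ⟨x' * x'', ?_⟩
      rw [pow_succ, hx', map_mul, hx'']
      conv_lhs => rw [hyx]
      rw [pow_succ]
      group
  have hyd : y ^ d ∈ (emb hp.inList f).range := by
    obtain ⟨x', hx'⟩ := hpow d
    rw [hx']
    exact mul_mem ⟨x', rfl⟩ (fix_pow hp cs f hq hB hd ht hf)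
  have hbez := Nat.gcd_eq_gcd_ab m d
  rw [hm.gcd_eq_one] at hbez
  have h1 : y = (y ^ m) ^ (m.gcdA d) * (y ^ d) ^ (m.gcdB d) := by
    rw [← zpow_natCast, ← zpow_natCast, ← zpow_mul, ← zpow_mul, ← zpow_add, ← hbez]
    simp
  rw [h1, hym, one_zpow, one_mul]
  exact zpow_mem hyd _

end Fix

section Tor

variable {k : Type u} [Field k] [IsAlgClosed k] {d : ℕ} {B : Fin l → Fin l → ℤ} (hB : InvC D l d B) (hd : d ≠ 0)

theorem isMC_ch (φ : Ch l k) : IsMC (fun x : Fin l → ℤ => ((φ (Multiplicative.ofAdd x) : kˣ) : k)) where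
  zero := by
    show ((φ 1 : kˣ) : k) = 1
    rw [map_one, Units.val_one]
  add x y := by
    show ((φ (Multiplicative.ofAdd x * Multiplicative.ofAdd y) : kˣ) : k) = _
    rw [map_mul, Units.val_mul]

include hp hB hd in
theorem exists_tor (φ : Ch l k) : ∃ t ∈ TT D k, ∀ x, cX hp t x = ((φ (Multiplicative.ofAdd x) : kˣ) : k) :=
  exists_cX hp hB hd (isMC_ch φ) (fun _ => IsAlgClosed.exists_pow_nat_eq _ (Nat.pos_of_ne_zero hd))

/-- the torus element with given characters -/
noncomputable def tor (φ : Ch l k) : ↥(D.group k) := Classical.choose (exists_tor hp hB hd φ)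

theorem tor_mem (φ : Ch l k) : tor hp hB hd φ ∈ TT D k := (Classical.choose_spec (exists_tor hp hB hd φ)).1

theorem cX_tor (φ : Ch l k) (x : Fin l → ℤ) :
    cX hp (tor hp hB hd φ) x = ((φ (Multiplicative.ofAdd x) : kˣ) : k) :=
  (Classical.choose_spec (exists_tor hp hB hd φ)).2 x

/-- as a homomorphism -/
noncomputable def torHom : Ch l k →* ↥(D.group k) where
  toFun := tor hp hB hd
  map_one' := by
    refine cX_inj hp (tor_mem hp hB hd 1) (one_mem _) fun i => ?_
    rw [cX_tor, cX_one]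
    rfl
  map_mul' φ ψ := by
    refine cX_inj hp (tor_mem hp hB hd _) (mul_mem (tor_mem hp hB hd φ) (tor_mem hp hB hd ψ)) fun i => ?_
    rw [cX_tor, cX_mul hp (tor_mem hp hB hd φ) (tor_mem hp hB hd ψ), cX_tor, cX_tor, MonoidHom.mul_apply,
      Units.val_mul]

theorem torHom_injective : Function.Injective (torHom hp hB hd (k := k)) := by
  intro φ ψ h
  refine MonoidHom.ext fun x => Units.ext ?_
  have h1 : tor hp hB hd φ = tor hp hB hd ψ := h
  have h2 := cX_tor hp hB hd φ (Multiplicative.toAdd x)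
  rw [h1, cX_tor] at h2
  exact h2.symm

end Tor

section Det

theorem det_ne_zero {l : ℕ} {k : Type u} [Field k] {f g : Module.End ℤ (Fin l → ℤ)} (hfg : f * g = 1) {q : ℕ}
    (hq : (q : k) = 0) : ((LinearMap.det (f - ((q : ℕ) : ℤ) • (1 : Module.End ℤ (Fin l → ℤ))) : ℤ) : k) ≠ 0 := by
  have h1 : IsUnit (LinearMap.det f) := by
    have h2 := congrArg LinearMap.det hfg
    rw [map_mul, map_one] at h2
    exact IsUnit.of_mul_eq_one _ h2
  have h3 : ((LinearMap.det (f - ((q : ℕ) : ℤ) • (1 : Module.End ℤ (Fin l → ℤ))) : ℤ) : k) =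
      ((LinearMap.det f : ℤ) : k) := by
    rw [← LinearMap.det_toMatrix', ← LinearMap.det_toMatrix']
    have h4 : ∀ A : Matrix (Fin l) (Fin l) ℤ, ((A.det : ℤ) : k) = ((Int.castRingHom k).mapMatrix A).det := by
      intro A
      rw [← RingHom.map_det]
      rfl
    rw [h4, h4]
    congr 1
    rw [map_sub, map_smul, LinearMap.toMatrix'_one, map_sub]
    have h5 : (Int.castRingHom k).mapMatrix (((q : ℕ) : ℤ) • (1 : Matrix (Fin l) (Fin l) ℤ)) = 0 := by
      ext i j
      show (((((q : ℕ) : ℤ) * (1 : Matrix (Fin l) (Fin l) ℤ) i j : ℤ)) : k) = 0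
      rw [Int.cast_mul, Int.cast_natCast, hq, zero_mul]
    rw [h5, sub_zero]
  rw [h3]
  intro h4
  have h5 : IsUnit ((LinearMap.det f : ℤ) : k) := h1.map (Int.castRingHom k)
  rw [h4] at h5
  exact not_isUnit_zero h5

end Det

/-- **Embedding in the finite group.** -/
theorem exists_hom {F : Type u} [Field F] [Fintype F] {q : ℕ} (hq : Fintype.card F = q)
    {d : ℕ} {B : Fin l → Fin l → ℤ} (hB : InvC D l d B) (hd : d ≠ 0) (w : W) {A : Type v} [Group A] {m : ℕ}
    (hm : m.Coprime d) (hA : ∀ a : A, a ^ m = 1)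
    (g : A →* Multiplicative ((Fin l → ℤ) ⧸
      LinearMap.range (rep cs hp.isCartan w - ((q : ℕ) : ℤ) • (1 : Module.End ℤ (Fin l → ℤ)))))
    (hg : Function.Injective g) : ∃ g' : A →* ↥(D.group F), Function.Injective g' := by
  obtain ⟨p, e, hpF, hpc, hpk, he, rfl, hk⟩ := exists_closure hq
  let k := AlgebraicClosure F
  let f : F →+* k := algebraMap F k
  let hN : NSys M (TT D k) (nc hp k) := nsys_of_locFin hp cs hk p
  have hFr := fr_phi (k := k) (p := p) (e := e) hp cs
  obtain ⟨n, hn⟩ := exists_rp cs hN w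
  obtain ⟨z, hz⟩ := lang_all hp cs he (isFrob_phi (D := D) (k := k) (p := p) (e := e)) hFr 1 n
  rw [map_one, one_mul] at hz
  have hdet : ((LinearMap.det (rep cs hp.isCartan w - (((p ^ e : ℕ) : ℕ) : ℤ) • (1 : Module.End ℤ (Fin l → ℤ))) : ℤ) : k)
      ≠ 0 := by
    apply det_ne_zero (g := rep cs hp.isCartan w⁻¹)
    · rw [← map_mul, mul_inv_cancel, map_one]
    · rw [Nat.cast_pow, CharP.cast_eq_zero k p, zero_pow he.ne']
  obtain ⟨eq⟩ := kerOf_equiv k hdet
  -- the embedding in `D.group k`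
  let h0 : A →* ↥(D.group k) := ((MulAut.conj z).toMonoidHom.comp (torHom hp hB hd)).comp
    ((KerOf k _).subtype.comp (eq.symm.toMonoidHom.comp g))
  have h0inj : Function.Injective h0 :=
    ((MulAut.conj z).injective.comp (torHom_injective hp hB hd)).comp
      (Subtype.val_injective.comp (eq.symm.injective.comp hg))
  have hmem : ∀ a, h0 a ∈ (emb hp.inList f).range := by
    intro a
    refine mem_range_of_pow hp cs f hq hB hd hm ?_ (by rw [← map_pow, hA a, map_one])
    set φ : ↥(KerOf k (rep cs hp.isCartan w - (((p ^ e : ℕ) : ℕ) : ℤ) • (1 : Module.End ℤ (Fin l → ℤ)))) :=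
      eq.symm (g a) with hφ
    have ht := tor_mem hp hB hd φ.1
    have hτ : n * phi D k p e (tor hp hB hd φ.1) * n⁻¹ = tor hp hB hd φ.1 := by
      rw [tau_iff hp cs hk isFrob_phi hFr hn ht]
      intro x
      rw [theta_apply, cX_tor, cX_tor]
      have h1 := φ.2 x
      rw [LinearMap.sub_apply, LinearMap.smul_apply, Module.End.one_apply, ofAdd_sub, map_div, div_eq_one] at h1
      show ((φ.1 (Multiplicative.ofAdd (rep cs hp.isCartan w x)) : kˣ) : k) = _
      rw [h1, ← Units.val_pow_eq_pow_val, ← map_pow]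
      congr 2
    exact conj_fixed hz hτ (Subgroup.mem_zpowers _)
  let h1 : A →* (emb hp.inList f).range := h0.codRestrict _ hmem
  have h1inj : Function.Injective h1 := fun a b hab => h0inj (congrArg Subtype.val hab)
  exact ⟨(MonoidHom.ofInjective (emb_injective hp.inList f)).symm.toMonoidHom.comp h1,
    (MonoidHom.ofInjective (emb_injective hp.inList f)).symm.injective.comp h1inj⟩

end Cfsg.Agent.H130.TorEmb
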