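import Cfsg.Agent.H130.WeylCk
import Cfsg.Agent.ChevalleyStructure.CoxeterGeomTypes
set_option linter.all false

/-!
# The certificates for the seven types (helper130; generated)

`Has D l degs e` : for the degrees `degs` of the Weyl group of `D` there is a certificate for `e` with `a` the number of
degrees divisible by `e`.
-/

set_option autoImplicit false

namespace Cfsg.Agent.H130.WeylTab

open Cfsg.Agent.H130.WeylCk Cfsg.Agent.H130.PolyL Cfsg.Agent.ChevalleyStructure.CoxeterGeomTypes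

/-- there is a certificate -/
def Has (Al : List (List ℤ)) (l : ℕ) (degs : List ℕ) (e : ℕ) : Prop :=
  ∃ (word : List (Fin l)) (k : ℕ) (c : ℤ) (xs ys : List (List ℤ)),
    Cert Al l e (degs.filter (fun i => e ∣ i)).length word k c xs ys ∧ c ∣ (degs.prod : ℤ)

/-- the Cartan matrix of type G2 -/
def alG2 : List (List ℤ) := [[2, -3], [-1, 2]]

theorem lists_G2 : MatList (cartanOf Cfsg.Lie.chevG2 2) alG2 := by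
  unfold MatList
  decide +kernel

theorem has_G2_1 : Has alG2 2 [2, 6] 1 :=
  ⟨[], 1, 1, [[1, 0], [0, 1]],
    [[1, 0], [0, 1]], by decide +kernel, by decide +kernel⟩

theorem has_G2_2 : Has alG2 2 [2, 6] 2 :=
  ⟨[0, 1], 3, 1, [[1, 1], [0, 1]],
    [[1, 0], [-1, 1]], by decide +kernel, by decide +kernel⟩

theorem has_G2_3 : Has alG2 2 [2, 6] 3 :=
  ⟨[0, 1], 2, 3, [[0, 1]],
    [[-1, 0]], by decide +kernel, by decide +kernel⟩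

theorem has_G2_6 : Has alG2 2 [2, 6] 6 :=
  ⟨[0, 1], 1, 3, [[0, 1]],
    [[-1, 0]], by decide +kernel, by decide +kernel⟩

theorem has_G2 : ∀ e ∈ [1, 2, 3, 6], Has alG2 2 [2, 6] e := by
  intro e he
  simp only [List.mem_cons, List.not_mem_nil, or_false] at he
  rcases he with rfl | rfl | rfl | rfl
  · exact has_G2_1
  · exact has_G2_2
  · exact has_G2_3
  · exact has_G2_6

/-- the Cartan matrix of type B2 -/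
def alB2 : List (List ℤ) := [[2, -2], [-1, 2]]

theorem lists_B2 : MatList (cartanOf Cfsg.Lie.chevB2 2) alB2 := by
  unfold MatList
  decide +kernel

theorem has_B2_1 : Has alB2 2 [2, 4] 1 :=
  ⟨[], 1, 1, [[0, 1], [1, 0]],
    [[0, 1], [1, 0]], by decide +kernel, by decide +kernel⟩

theorem has_B2_2 : Has alB2 2 [2, 4] 2 :=
  ⟨[0, 1], 2, 1, [[1, 0], [0, 1]],
    [[1, 0], [0, 1]], by decide +kernel, by decide +kernel⟩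

theorem has_B2_4 : Has alB2 2 [2, 4] 4 :=
  ⟨[0, 1], 1, 1, [[1, 0]],
    [[0, 1]], by decide +kernel, by decide +kernel⟩

theorem has_B2 : ∀ e ∈ [1, 2, 4], Has alB2 2 [2, 4] e := by
  intro e he
  simp only [List.mem_cons, List.not_mem_nil, or_false] at he
  rcases he with rfl | rfl | rfl
  · exact has_B2_1
  · exact has_B2_2
  · exact has_B2_4

/-- the Cartan matrix of type D4 -/
def alD4 : List (List ℤ) := [[2, -1, 0, 0], [-1, 2, -1, -1], [0, -1, 2, 0], [0, -1, 0, 2]]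

theorem lists_D4 : MatList (cartanOf Cfsg.Lie.chevD4 4) alD4 := by
  unfold MatList
  decide +kernel

theorem has_D4_1 : Has alD4 4 [2, 4, 4, 6] 1 :=
  ⟨[], 1, 1, [[1, 0, 0, 1], [1, 1, 0, 1], [0, 1, 1, 0], [0, 0, 0, 1]],
    [[1, -1, 1, 0], [0, 1, -1, 0], [0, 0, 1, 0], [-1, 0, 0, 1]], by decide +kernel, by decide +kernel⟩

theorem has_D4_2 : Has alD4 4 [2, 4, 4, 6] 2 :=
  ⟨[0, 1, 2, 3], 3, 1, [[-1, 0, -1, 0], [0, -1, 0, -1], [0, 1, -1, 1], [0, 0, 0, -1]],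
    [[-1, 0, 0, 0], [1, -1, -1, 0], [1, 0, -1, 0], [0, 1, 0, -1]], by decide +kernel, by decide +kernel⟩

theorem has_D4_3 : Has alD4 4 [2, 4, 4, 6] 3 :=
  ⟨[0, 1, 2, 3], 2, 1, [[1, 1, 0, 0]],
    [[0, 0, 0, 1]], by decide +kernel, by decide +kernel⟩

theorem has_D4_4 : Has alD4 4 [2, 4, 4, 6] 4 :=
  ⟨[3, 3, 2, 1, 3, 0, 1, 3], 1, 2, [[1, 0, 1, 1], [0, 0, 0, 1]],
    [[0, 1, 0, 0], [-2, -1, 2, 0]], by decide +kernel, by decide +kernel⟩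

theorem has_D4_6 : Has alD4 4 [2, 4, 4, 6] 6 :=
  ⟨[0, 1, 2, 3], 1, 3, [[-1, 0, 1, 1]],
    [[0, -1, 0, 0]], by decide +kernel, by decide +kernel⟩

theorem has_D4 : ∀ e ∈ [1, 2, 3, 4, 6], Has alD4 4 [2, 4, 4, 6] e := by
  intro e he
  simp only [List.mem_cons, List.not_mem_nil, or_false] at he
  rcases he with rfl | rfl | rfl | rfl | rfl
  · exact has_D4_1
  · exact has_D4_2
  · exact has_D4_3
  · exact has_D4_4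
  · exact has_D4_6

/-- the Cartan matrix of type F4 -/
def alF4 : List (List ℤ) := [[2, -1, 0, 0], [-1, 2, -2, 0], [0, -1, 2, -1], [0, 0, -1, 2]]

theorem lists_F4 : MatList (cartanOf Cfsg.Lie.chevF4 4) alF4 := by
  unfold MatList
  decide +kernel

theorem has_F4_1 : Has alF4 4 [2, 6, 8, 12] 1 :=
  ⟨[], 1, 3, [[0, 1, 0, 0], [0, 0, -1, 1], [1, 1, -1, -1], [-1, 0, 0, -1]],
    [[-1, 3, 1, 1], [-1, 0, -2, 1], [1, 0, -1, -1], [-2, 0, -1, -1]], by decide +kernel, by decide +kernel⟩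

theorem has_F4_2 : Has alF4 4 [2, 6, 8, 12] 2 :=
  ⟨[0, 1, 2, 3], 6, 1, [[1, 1, 0, 0], [0, 1, 1, 0], [0, 1, 1, 1], [0, 1, 0, 1]],
    [[1, 0, 0, 0], [-1, 1, 0, -1], [1, -1, 1, 1], [-1, 1, -1, 0]], by decide +kernel, by decide +kernel⟩

theorem has_F4_3 : Has alF4 4 [2, 6, 8, 12] 3 :=
  ⟨[0, 1, 2, 3], 4, 2, [[0, 0, 1, 1], [0, 0, 1, 0]],
    [[1, -1, 0, 0], [-2, 1, 0, 0]], by decide +kernel, by decide +kernel⟩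

theorem has_F4_4 : Has alF4 4 [2, 6, 8, 12] 4 :=
  ⟨[0, 1, 2, 3], 3, 2, [[1, 0, 0, 0], [0, 0, 0, 1]],
    [[0, 2, -2, 0], [0, 1, -2, 0]], by decide +kernel, by decide +kernel⟩

theorem has_F4_6 : Has alF4 4 [2, 6, 8, 12] 6 :=
  ⟨[0, 1, 2, 3], 2, 1, [[0, 1, 1, 0], [0, 1, 0, 0]],
    [[-1, 0, 0, 1], [0, 0, 0, 1]], by decide +kernel, by decide +kernel⟩

theorem has_F4_8 : Has alF4 4 [2, 6, 8, 12] 8 :=
  ⟨[2, 1, 3, 2, 1, 0, 2, 2, 3, 3], 1, 1, [[0, 1, 0, 0]],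
    [[0, 0, 0, -1]], by decide +kernel, by decide +kernel⟩

theorem has_F4_12 : Has alF4 4 [2, 6, 8, 12] 12 :=
  ⟨[0, 1, 2, 3], 1, 1, [[1, 0, 0, 0]],
    [[0, 0, 0, 1]], by decide +kernel, by decide +kernel⟩

theorem has_F4 : ∀ e ∈ [1, 2, 3, 4, 6, 8, 12], Has alF4 4 [2, 6, 8, 12] e := by
  intro e he
  simp only [List.mem_cons, List.not_mem_nil, or_false] at he
  rcases he with rfl | rfl | rfl | rfl | rfl | rfl | rfl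
  · exact has_F4_1
  · exact has_F4_2
  · exact has_F4_3
  · exact has_F4_4
  · exact has_F4_6
  · exact has_F4_8
  · exact has_F4_12

/-- the Cartan matrix of type E6 -/
def alE6 : List (List ℤ) := [[2, 0, -1, 0, 0, 0], [0, 2, 0, -1, 0, 0], [-1, 0, 2, -1, 0, 0], [0, -1, -1, 2, -1, 0], [0, 0, 0, -1, 2, -1], [0, 0, 0, 0, -1, 2]]

theorem lists_E6 : MatList (cartanOf Cfsg.Lie.chevE6 6) alE6 := by
  unfold MatList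
  decide +kernel

theorem has_E6_1 : Has alE6 6 [2, 5, 6, 8, 9, 12] 1 :=
  ⟨[], 1, 1, [[0, 0, 0, 0, 0, 1], [0, 0, 0, -1, 1, 0], [1, -1, -1, -1, 1, 0], [0, -1, 0, -1, 1, 0], [-1, 0, 0, 0, -1, 0], [0, 1, -1, 0, 0, 0]],
    [[0, 0, 0, 0, 0, 1], [1, 1, 1, -2, -1, 0], [1, 0, 0, -1, -1, 0], [-2, -1, -1, 2, 2, 0], [0, 0, 0, -1, -1, 0], [-1, 0, -1, 1, 1, 0]], by decide +kernel, by decide +kernel⟩

theorem has_E6_2 : Has alE6 6 [2, 5, 6, 8, 9, 12] 2 :=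
  ⟨[0, 1, 2, 3, 4, 5], 6, 1, [[2, 0, 1, 1, -1, 0], [-1, 0, -1, -1, 0, 0], [1, 0, 0, 1, 0, 1], [0, 1, 0, 0, 0, 0]],
    [[0, 0, 0, 0, -1, 0], [0, 0, -1, 0, -1, 0], [0, 0, 0, 0, 0, 1], [0, 1, 0, 0, 0, 0]], by decide +kernel, by decide +kernel⟩

theorem has_E6_3 : Has alE6 6 [2, 5, 6, 8, 9, 12] 3 :=
  ⟨[0, 1, 2, 3, 4, 5], 4, 1, [[1, 1, 0, 1, 0, 1], [0, 0, 0, 1, 0, 1], [0, 1, 0, 0, 1, 0]],
    [[-1, 1, 1, 0, -1, 0], [0, 0, 0, -1, 0, 1], [0, 0, 1, -2, 0, 2]], by decide +kernel, by decide +kernel⟩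

theorem has_E6_4 : Has alE6 6 [2, 5, 6, 8, 9, 12] 4 :=
  ⟨[0, 1, 2, 3, 4, 5], 3, 1, [[0, 1, -1, 0, 0, 1], [1, 0, 1, 1, 0, 0]],
    [[0, -1, -1, 1, 0, 0], [0, -1, -1, 1, 1, 0]], by decide +kernel, by decide +kernel⟩

theorem has_E6_5 : Has alE6 6 [2, 5, 6, 8, 9, 12] 5 :=
  ⟨[5, 3, 4, 2, 3, 2], 1, 1, [[0, 0, 1, 0, 0, 0]],
    [[0, 0, 0, 1, -1, 1]], by decide +kernel, by decide +kernel⟩

theorem has_E6_6 : Has alE6 6 [2, 5, 6, 8, 9, 12] 6 :=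
  ⟨[0, 1, 2, 3, 4, 5], 2, 1, [[-1, 0, -1, 0, 1, 1], [1, 0, 1, 1, 0, 0]],
    [[0, 0, 0, 0, -1, 1], [0, 1, 0, 0, -2, 2]], by decide +kernel, by decide +kernel⟩

theorem has_E6_8 : Has alE6 6 [2, 5, 6, 8, 9, 12] 8 :=
  ⟨[2, 4, 0, 2, 3, 0, 5, 1, 2, 4, 4], 1, 1, [[1, 0, 1, 1, 0, 0]],
    [[-1, 0, 1, 0, -1, 0]], by decide +kernel, by decide +kernel⟩

theorem has_E6_9 : Has alE6 6 [2, 5, 6, 8, 9, 12] 9 :=
  ⟨[1, 3, 4, 1, 3, 4, 0, 5, 1, 5, 2, 5], 1, 1, [[0, 0, 0, 1, 0, 1]],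
    [[-1, 0, 2, -1, -1, 1]], by decide +kernel, by decide +kernel⟩

theorem has_E6_12 : Has alE6 6 [2, 5, 6, 8, 9, 12] 12 :=
  ⟨[0, 1, 2, 3, 4, 5], 1, 2, [[-1, 0, 0, 0, 1, 0]],
    [[0, 1, 0, -1, 0, 0]], by decide +kernel, by decide +kernel⟩

theorem has_E6 : ∀ e ∈ [1, 2, 3, 4, 5, 6, 8, 9, 12], Has alE6 6 [2, 5, 6, 8, 9, 12] e := by
  intro e he
  simp only [List.mem_cons, List.not_mem_nil, or_false] at he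
  rcases he with rfl | rfl | rfl | rfl | rfl | rfl | rfl | rfl | rfl
  · exact has_E6_1
  · exact has_E6_2
  · exact has_E6_3
  · exact has_E6_4
  · exact has_E6_5
  · exact has_E6_6
  · exact has_E6_8
  · exact has_E6_9
  · exact has_E6_12

/-- the Cartan matrix of type E7 -/
def alE7 : List (List ℤ) := [[2, 0, -1, 0, 0, 0, 0], [0, 2, 0, -1, 0, 0, 0], [-1, 0, 2, -1, 0, 0, 0], [0, -1, -1, 2, -1, 0, 0], [0, 0, 0, -1, 2, -1, 0], [0, 0, 0, 0, -1, 2, -1], [0, 0, 0, 0, 0, -1, 2]]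

theorem lists_E7 : MatList (cartanOf Cfsg.Lie.chevE7 7) alE7 := by
  unfold MatList
  decide +kernel

theorem has_E7_1 : Has alE7 7 [2, 6, 8, 10, 12, 14, 18] 1 :=
  ⟨[], 1, 1, [[0, 1, 0, 0, 1, 0, 0], [0, 0, 1, 0, 0, 0, 0], [0, 0, 1, 0, 1, 0, 0], [0, 1, 1, 1, 0, 1, 0], [1, 1, 0, 0, 0, 1, 0], [0, 0, 1, 0, 0, 1, 0], [0, 0, 0, 0, 1, 0, 1]],
    [[-1, 1, 0, -1, 0, 0, 0], [0, 1, 1, -1, -1, -1, 1], [1, -1, 0, 1, 1, 0, -1], [0, 0, 0, 1, 0, 0, 0], [1, 0, 0, 0, 0, 0, 0], [-1, 0, 0, -1, 0, 1, 0], [0, 0, 0, 0, 0, 0, 1]], by decide +kernel, by decide +kernel⟩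

theorem has_E7_2 : Has alE7 7 [2, 6, 8, 10, 12, 14, 18] 2 :=
  ⟨[0, 1, 2, 3, 4, 5, 6], 9, 3, [[0, 0, 0, 1, 0, 0, 0], [0, 0, 0, 0, 0, 0, 1], [0, 0, 1, 0, 1, 1, 0], [1, 1, 0, 0, 1, 0, 0], [1, 0, 1, 1, 0, 0, 1], [0, 1, 0, 1, 0, 0, 0], [1, 0, 0, 0, 0, 1, 1]],
    [[0, -3, -3, 3, 3, 0, 0], [-2, 0, -1, 0, 2, -1, 3], [-1, 0, 1, 0, 1, 1, 0], [1, 0, -1, 0, 2, -1, 0], [1, 0, 2, 0, -1, -1, 0], [-1, 3, 1, 0, -2, 1, 0], [1, 0, -1, 0, -1, 2, 0]], by decide +kernel, by decide +kernel⟩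

theorem has_E7_3 : Has alE7 7 [2, 6, 8, 10, 12, 14, 18] 3 :=
  ⟨[0, 1, 2, 3, 4, 5, 6], 6, 2, [[1, 1, 1, 1, 0, 0, 0], [0, 0, 0, 0, 0, 1, 1], [0, 0, 1, 0, 1, 1, 0]],
    [[1, -1, -1, 1, 0, 1, -1], [2, -1, -1, 0, 0, 1, -1], [0, 1, -1, 0, 0, 1, -1]], by decide +kernel, by decide +kernel⟩

theorem has_E7_4 : Has alE7 7 [2, 6, 8, 10, 12, 14, 18] 4 :=
  ⟨[4, 1, 6, 5, 6, 2, 6, 6, 3], 2, 2, [[0, 0, 0, 1, 0, 0, 0], [0, 1, 1, 0, 0, 0, 0]],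
    [[0, 0, 0, 0, -2, 2, 0], [0, 0, 0, 0, -1, 2, 0]], by decide +kernel, by decide +kernel⟩

theorem has_E7_5 : Has alE7 7 [2, 6, 8, 10, 12, 14, 18] 5 :=
  ⟨[2, 2, 6, 1, 3, 4, 2, 5, 4, 6, 4, 5], 2, 1, [[0, 0, 1, 1, 1, 0, 0]],
    [[0, 0, 0, 0, 0, -1, 1]], by decide +kernel, by decide +kernel⟩

theorem has_E7_6 : Has alE7 7 [2, 6, 8, 10, 12, 14, 18] 6 :=
  ⟨[0, 1, 2, 3, 4, 5, 6], 3, 7, [[0, -1, 0, 0, 1, 0, 0], [1, -1, 1, 0, 1, 0, 0], [0, 0, 1, 0, 0, 1, 1]],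
    [[1, -3, -1, 1, -3, 1, 0], [-4, 5, 4, -4, 5, -4, 0], [1, 4, -1, -6, 4, 1, 0]], by decide +kernel, by decide +kernel⟩

theorem has_E7_7 : Has alE7 7 [2, 6, 8, 10, 12, 14, 18] 7 :=
  ⟨[4, 4, 3, 0, 6, 4, 5, 1, 2, 6, 1, 5], 1, 1, [[1, 0, 0, 0, 0, 0, 0]],
    [[0, 0, 1, -1, 0, 0, 0]], by decide +kernel, by decide +kernel⟩

theorem has_E7_8 : Has alE7 7 [2, 6, 8, 10, 12, 14, 18] 8 :=
  ⟨[0, 5, 5, 1, 4, 5, 1, 0, 1, 2, 5, 0, 3], 1, 2, [[0, 0, 1, 0, 0, 0, 0]],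
    [[1, -2, 0, 1, 0, 0, 0]], by decide +kernel, by decide +kernel⟩

theorem has_E7_9 : Has alE7 7 [2, 6, 8, 10, 12, 14, 18] 9 :=
  ⟨[0, 1, 2, 3, 4, 5, 6], 2, 1, [[0, 0, 0, 1, 1, 0, 0]],
    [[1, 1, -1, 0, 0, -1, 1]], by decide +kernel, by decide +kernel⟩

theorem has_E7_10 : Has alE7 7 [2, 6, 8, 10, 12, 14, 18] 10 :=
  ⟨[3, 2, 2, 1, 2, 2, 5, 4, 6, 2], 1, 5, [[0, -1, -1, 0, 0, 0, 1]],
    [[0, 0, 0, -1, 5, -2, 0]], by decide +kernel, by decide +kernel⟩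

theorem has_E7_12 : Has alE7 7 [2, 6, 8, 10, 12, 14, 18] 12 :=
  ⟨[3, 2, 5, 0, 1, 4], 1, 1, [[0, 0, 0, 1, 0, 0, 0]],
    [[1, 1, 0, 0, -1, 0, 0]], by decide +kernel, by decide +kernel⟩

theorem has_E7_14 : Has alE7 7 [2, 6, 8, 10, 12, 14, 18] 14 :=
  ⟨[6, 4, 6, 3, 2, 6, 0, 3, 1, 3, 5, 5, 5], 1, 1, [[0, 0, 0, 1, 0, 0, 0]],
    [[0, -1, 0, 0, 1, -1, 0]], by decide +kernel, by decide +kernel⟩

theorem has_E7_18 : Has alE7 7 [2, 6, 8, 10, 12, 14, 18] 18 :=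
  ⟨[0, 1, 2, 3, 4, 5, 6], 1, 3, [[0, 1, 0, 0, 0, 1, 0]],
    [[-2, -1, -1, 2, 0, 1, 1]], by decide +kernel, by decide +kernel⟩

theorem has_E7 : ∀ e ∈ [1, 2, 3, 4, 5, 6, 7, 8, 9, 10, 12, 14, 18], Has alE7 7 [2, 6, 8, 10, 12, 14, 18] e := by
  intro e he
  simp only [List.mem_cons, List.not_mem_nil, or_false] at he
  rcases he with rfl | rfl | rfl | rfl | rfl | rfl | rfl | rfl | rfl | rfl | rfl | rfl | rfl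
  · exact has_E7_1
  · exact has_E7_2
  · exact has_E7_3
  · exact has_E7_4
  · exact has_E7_5
  · exact has_E7_6
  · exact has_E7_7
  · exact has_E7_8
  · exact has_E7_9
  · exact has_E7_10
  · exact has_E7_12
  · exact has_E7_14
  · exact has_E7_18

/-- the Cartan matrix of type E8 -/
def alE8 : List (List ℤ) := [[2, 0, -1, 0, 0, 0, 0, 0], [0, 2, 0, -1, 0, 0, 0, 0], [-1, 0, 2, -1, 0, 0, 0, 0], [0, -1, -1, 2, -1, 0, 0, 0], [0, 0, 0, -1, 2, -1, 0, 0], [0, 0, 0, 0, -1, 2, -1, 0], [0, 0, 0, 0, 0, -1, 2, -1], [0, 0, 0, 0, 0, 0, -1, 2]]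

theorem lists_E8 : MatList (cartanOf Cfsg.Lie.chevE8 8) alE8 := by
  unfold MatList
  decide +kernel

theorem has_E8_1 : Has alE8 8 [2, 8, 12, 14, 18, 20, 24, 30] 1 :=
  ⟨[], 1, 1, [[1, 0, 0, 1, 1, 0, 1, 0], [1, 0, 0, 0, 0, 0, 1, 0], [0, 1, 0, 0, 0, 1, 1, 0], [0, 1, 0, 0, 0, 0, 0, 0], [1, 0, 1, 0, 0, 0, 0, 0], [0, 0, 0, 1, 0, 0, 0, 0], [0, 0, 1, 1, 0, 0, 0, 0], [0, 0, 0, 0, 1, 0, 0, 1]],
    [[0, 0, 0, 0, 1, 0, 0, -1], [0, 0, 0, 0, -1, -1, 1, 1], [0, 0, 0, 0, 0, 1, 0, 0], [0, 1, 0, 0, 0, -1, 0, 0], [1, 0, 0, 0, 0, 1, -1, 0], [1, 0, -1, 1, -1, 1, -1, 1], [-1, 0, 1, 0, 0, -1, 1, 0], [0, 0, 0, 0, 0, 0, 0, 1]], by decide +kernel, by decide +kernel⟩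

theorem has_E8_2 : Has alE8 8 [2, 8, 12, 14, 18, 20, 24, 30] 2 :=
  ⟨[0, 1, 2, 3, 4, 5, 6, 7], 15, 1, [[0, 0, 0, 0, 0, 0, 0, 1], [1, 0, 0, 0, 0, 0, 0, 0], [0, 0, 0, 1, 0, 0, 1, 0], [0, 0, 0, 1, 1, 0, 1, 1], [0, 0, 1, 0, 0, 0, 0, 0], [0, 0, 1, 0, 0, 1, 0, 0], [0, 1, 0, 0, 1, 0, 0, 0], [0, 0, 1, 1, 1, 0, 0, 0]],
    [[0, 1, 0, 1, -1, 0, -1, 1], [1, 0, 0, 0, 0, 0, 0, 0], [0, 1, 0, 1, -1, 0, 0, 0], [0, -1, 0, -1, 1, 0, 1, 0], [0, 0, 1, -1, 0, -1, 1, 0], [0, 0, 0, 0, 0, 1, 0, 0], [0, 1, 0, 0, 0, 0, 0, 0], [0, 0, 0, 1, 0, 0, -1, 0]], by decide +kernel, by decide +kernel⟩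

theorem has_E8_3 : Has alE8 8 [2, 8, 12, 14, 18, 20, 24, 30] 3 :=
  ⟨[0, 1, 2, 3, 4, 5, 6, 7], 10, 3, [[1, 0, 0, 0, 0, 0, 1, 0], [0, 0, 0, 0, 0, 1, 0, 1], [0, 0, 0, 0, 1, 0, 1, 0], [0, 0, 1, 0, 1, 1, 1, 0]],
    [[-2, -1, 0, 2, -2, 0, 2, 0], [-1, -2, 0, 1, -1, 0, 1, 0], [0, 1, -1, -1, 0, 1, 0, -1], [0, 1, 2, -1, 0, -2, 0, 2]], by decide +kernel, by decide +kernel⟩

theorem has_E8_4 : Has alE8 8 [2, 8, 12, 14, 18, 20, 24, 30] 4 :=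
  ⟨[4, 3, 2, 1, 5, 0, 6, 3, 1, 7, 5, 6], 6, 2, [[1, 0, 1, 0, 0, 0, 0, 1], [1, 1, 1, 0, 0, 0, 0, 0], [1, 0, 1, 0, 0, 0, 1, 1], [1, 0, 0, 0, 0, 0, 0, 0]],
    [[0, -1, 1, 0, -1, 1, 0, -1], [0, 1, -1, 0, -1, 1, 0, 1], [0, 0, 0, -2, 4, -2, 0, 0], [0, 1, -1, 2, -2, -1, 0, 1]], by decide +kernel, by decide +kernel⟩

theorem has_E8_5 : Has alE8 8 [2, 8, 12, 14, 18, 20, 24, 30] 5 :=
  ⟨[0, 1, 2, 3, 4, 5, 6, 7], 6, 1, [[0, 1, 0, 0, 1, 0, 0, 0], [0, 0, 0, 0, 1, 0, 0, 0]],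
    [[-1, 0, 0, 0, 0, 0, 1, 0], [0, 0, 0, 0, 0, 1, -1, -1]], by decide +kernel, by decide +kernel⟩

theorem has_E8_6 : Has alE8 8 [2, 8, 12, 14, 18, 20, 24, 30] 6 :=
  ⟨[0, 1, 2, 3, 4, 5, 6, 7], 5, 1, [[0, 1, 0, 0, 0, 0, 1, 0], [0, 0, 0, 0, 0, 0, 1, 0], [0, 0, 0, 0, 0, 0, 0, 1], [0, 0, 0, 1, 1, 0, 0, 0]],
    [[0, 0, -1, 1, -1, 1, 0, 0], [-1, 0, 1, 0, 0, -1, 0, 0], [1, 0, -1, 1, -1, 0, 0, 0], [0, 0, -1, 0, 0, 1, 0, 0]], by decide +kernel, by decide +kernel⟩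

theorem has_E8_7 : Has alE8 8 [2, 8, 12, 14, 18, 20, 24, 30] 7 :=
  ⟨[6, 5, 0, 0, 0, 1, 0, 3, 2, 4, 0, 3], 1, 1, [[1, 0, 0, 0, 0, 0, 0, 0]],
    [[0, 1, -1, 0, 0, 0, 0, 0]], by decide +kernel, by decide +kernel⟩

theorem has_E8_8 : Has alE8 8 [2, 8, 12, 14, 18, 20, 24, 30] 8 :=
  ⟨[5, 0, 1, 6, 2, 4, 7, 3, 2, 0, 1, 2, 3, 1], 3, 2, [[1, 0, 1, 1, 0, 0, 0, 0], [1, 1, 0, 0, 0, 0, 1, 0]],
    [[1, 1, -1, 0, 0, 0, -2, 3], [0, 0, 1, -1, -1, 2, 0, -1]], by decide +kernel, by decide +kernel⟩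

theorem has_E8_9 : Has alE8 8 [2, 8, 12, 14, 18, 20, 24, 30] 9 :=
  ⟨[3, 3, 3, 2, 1, 0, 5, 1, 6, 3, 4, 2, 1], 2, 3, [[0, 0, 0, 1, 1, 0, 1, 0]],
    [[-2, 0, 0, 1, -2, 1, 1, 0]], by decide +kernel, by decide +kernel⟩

theorem has_E8_10 : Has alE8 8 [2, 8, 12, 14, 18, 20, 24, 30] 10 :=
  ⟨[0, 1, 2, 3, 4, 5, 6, 7], 3, 1, [[0, 0, 0, 0, 0, 1, 0, 0], [0, 0, 0, 1, 1, 1, 0, 0]],
    [[1, 0, -1, 1, -1, 0, 1, -1], [0, 0, 0, 0, 0, 0, -1, 1]], by decide +kernel, by decide +kernel⟩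

theorem has_E8_12 : Has alE8 8 [2, 8, 12, 14, 18, 20, 24, 30] 12 :=
  ⟨[5, 7, 4, 0, 2, 3, 6, 1, 2, 7, 4, 2, 6, 3], 2, 1, [[0, 0, 1, 1, 0, 0, 0, 0], [0, 0, 1, 0, 0, 0, 0, 1]],
    [[-1, 0, -1, 1, 1, -1, 0, 1], [0, 0, 0, 0, 0, -1, 1, 0]], by decide +kernel, by decide +kernel⟩

theorem has_E8_14 : Has alE8 8 [2, 8, 12, 14, 18, 20, 24, 30] 14 :=
  ⟨[2, 0, 2, 7, 3, 4, 1, 3, 5, 4, 6, 2, 7], 1, 1, [[1, 0, 0, 0, 0, 0, 0, 0]],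
    [[0, 0, -1, 0, 1, 0, 0, 0]], by decide +kernel, by decide +kernel⟩

theorem has_E8_15 : Has alE8 8 [2, 8, 12, 14, 18, 20, 24, 30] 15 :=
  ⟨[0, 1, 2, 3, 4, 5, 6, 7], 2, 1, [[0, 1, 0, 0, 1, 1, 1, 1]],
    [[1, 1, 1, -1, 0, -1, 0, 0]], by decide +kernel, by decide +kernel⟩

theorem has_E8_18 : Has alE8 8 [2, 8, 12, 14, 18, 20, 24, 30] 18 :=
  ⟨[4, 3, 1, 3, 1, 6, 7, 5, 7, 2, 0], 1, 1, [[1, 0, 0, 0, 0, 0, 0, 0]],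
    [[0, 1, -1, 0, 0, 0, 0, 0]], by decide +kernel, by decide +kernel⟩

theorem has_E8_20 : Has alE8 8 [2, 8, 12, 14, 18, 20, 24, 30] 20 :=
  ⟨[3, 6, 5, 0, 7, 1, 2, 4, 0, 3, 4, 2, 5, 4], 1, 1, [[0, 1, 0, 0, 0, 0, 0, 0]],
    [[-1, 0, 1, -1, 0, 1, 0, 0]], by decide +kernel, by decide +kernel⟩

theorem has_E8_24 : Has alE8 8 [2, 8, 12, 14, 18, 20, 24, 30] 24 :=
  ⟨[4, 0, 7, 5, 2, 6, 1, 3, 1, 0, 2, 3, 5, 5], 1, 3, [[0, 0, 0, 1, 0, 0, 0, 0]],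
    [[-1, 0, -1, 0, 1, 1, -2, 1]], by decide +kernel, by decide +kernel⟩

theorem has_E8_30 : Has alE8 8 [2, 8, 12, 14, 18, 20, 24, 30] 30 :=
  ⟨[0, 1, 2, 3, 4, 5, 6, 7], 1, 1, [[0, 0, 1, 0, 1, 0, 1, 0]],
    [[-1, 0, 0, 0, 0, 0, 0, 0]], by decide +kernel, by decide +kernel⟩

theorem has_E8 : ∀ e ∈ [1, 2, 3, 4, 5, 6, 7, 8, 9, 10, 12, 14, 15, 18, 20, 24, 30], Has alE8 8 [2, 8, 12, 14, 18, 20, 24, 30] e := by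
  intro e he
  simp only [List.mem_cons, List.not_mem_nil, or_false] at he
  rcases he with rfl | rfl | rfl | rfl | rfl | rfl | rfl | rfl | rfl | rfl | rfl | rfl | rfl | rfl | rfl | rfl | rfl
  · exact has_E8_1
  · exact has_E8_2
  · exact has_E8_3
  · exact has_E8_4
  · exact has_E8_5
  · exact has_E8_6
  · exact has_E8_7
  · exact has_E8_8
  · exact has_E8_9
  · exact has_E8_10
  · exact has_E8_12
  · exact has_E8_14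
  · exact has_E8_15
  · exact has_E8_18
  · exact has_E8_20
  · exact has_E8_24
  · exact has_E8_30

end Cfsg.Agent.H130.WeylTab
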