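import Mathlib
set_option linter.all false

/-!
# Cyclotomic polynomials as coefficient lists (helper130)

`ofL` : the integer polynomial with a given coefficient list; `cycL e` : the coefficients of `Φ_e` for
`e ∈ {1,...,10,12,14,15,18,20,24,30}`; `cyclotomic_eq`.
-/

set_option autoImplicit false

namespace Cfsg.Agent.H130.PolyL

open Polynomial

/-- the polynomial with coefficient list `p` (Horner form) -/
noncomputable def ofL : List ℤ → ℤ[X]
  | [] => 0
  | c :: p => C c + X * ofL p

/-- sum of coefficient lists -/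
def addL : List ℤ → List ℤ → List ℤ
  | [], p => p
  | p, [] => p
  | a :: p, b :: q => (a + b) :: addL p q

/-- scalar multiple of a coefficient list -/
def smulL (c : ℤ) (p : List ℤ) : List ℤ := p.map (fun a => c * a)

/-- product of coefficient lists -/
def mulL : List ℤ → List ℤ → List ℤ
  | [], _ => []
  | c :: p, q => addL (smulL c q) (0 :: mulL p q)

theorem ofL_addL (p q : List ℤ) : ofL (addL p q) = ofL p + ofL q := by
  induction p generalizing q with
  | nil => simp [addL, ofL]
  | cons a p ih =>
    cases q with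
    | nil => simp [addL, ofL]
    | cons b q =>
      simp only [addL, ofL, ih, map_add]
      ring

theorem ofL_smulL (c : ℤ) (p : List ℤ) : ofL (smulL c p) = C c * ofL p := by
  induction p with
  | nil => simp [smulL, ofL]
  | cons a p ih =>
    have : smulL c (a :: p) = (c * a) :: smulL c p := rfl
    rw [this]
    simp only [ofL, ih, map_mul]
    ring

theorem ofL_mulL (p q : List ℤ) : ofL (mulL p q) = ofL p * ofL q := by
  induction p with
  | nil => simp [mulL, ofL]
  | cons c p ih =>
    simp only [mulL, ofL_addL, ofL_smulL, ofL, ih, map_zero]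
    ring

/-- a coefficient list of the zero polynomial -/
def isZ : List ℤ → Bool
  | [] => true
  | b :: q => b == 0 && isZ q

theorem ofL_isZ {q : List ℤ} (h : isZ q = true) : ofL q = 0 := by
  induction q with
  | nil => rfl
  | cons b q ih =>
    simp only [isZ, Bool.and_eq_true, beq_iff_eq] at h
    simp only [ofL]
    rw [ih h.2, h.1]
    simp

/-- equality of coefficient lists up to trailing zeros -/
def eqL : List ℤ → List ℤ → Bool
  | [], q => isZ q
  | a :: p, q => match q with
    | [] => a == 0 && isZ p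
    | b :: q => a == b && eqL p q

theorem ofL_eq_of_eqL {p q : List ℤ} (h : eqL p q = true) : ofL p = ofL q := by
  induction p generalizing q with
  | nil =>
    simp only [eqL] at h
    rw [ofL_isZ h]
    rfl
  | cons a p ih =>
    cases q with
    | nil =>
      simp only [eqL, Bool.and_eq_true, beq_iff_eq] at h
      simp only [ofL]
      rw [ofL_isZ h.2, h.1]
      simp
    | cons b q =>
      simp only [eqL, Bool.and_eq_true, beq_iff_eq] at h
      simp only [ofL]
      rw [ih h.2, h.1]

/-- `X ^ n` -/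
def xpow : ℕ → List ℤ
  | 0 => [1]
  | n + 1 => 0 :: xpow n

theorem ofL_xpow (n : ℕ) : ofL (xpow n) = X ^ n := by
  induction n with
  | zero => simp [xpow, ofL]
  | succ n ih => simp only [xpow, ofL, ih, map_zero, zero_add]; rw [pow_succ']

/-- the cyclotomic polynomials -/
def cycL : ℕ → List ℤ
  | 1 => [-1, 1]
  | 2 => [1, 1]
  | 3 => [1, 1, 1]
  | 4 => [1, 0, 1]
  | 5 => [1, 1, 1, 1, 1]
  | 6 => [1, -1, 1]
  | 7 => [1, 1, 1, 1, 1, 1, 1]
  | 8 => [1, 0, 0, 0, 1]
  | 9 => [1, 0, 0, 1, 0, 0, 1]
  | 10 => [1, -1, 1, -1, 1]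
  | 12 => [1, 0, -1, 0, 1]
  | 14 => [1, -1, 1, -1, 1, -1, 1]
  | 15 => [1, -1, 0, 1, -1, 1, 0, -1, 1]
  | 18 => [1, 0, 0, -1, 0, 0, 1]
  | 20 => [1, 0, -1, 0, 1, 0, -1, 0, 1]
  | 24 => [1, 0, 0, 0, -1, 0, 0, 0, 1]
  | 30 => [1, 1, 0, -1, -1, -1, 0, 1, 1]
  | _ => []

/-- the indices -/
def idx : List ℕ := [1, 2, 3, 4, 5, 6, 7, 8, 9, 10, 12, 14, 15, 18, 20, 24, 30]

/-- proper divisors -/
def pd (n : ℕ) : List ℕ := (List.range n).filter (fun i => decide (i ≠ 0) && decide (i ∣ n))

theorem prod_pd (n : ℕ) (f : ℕ → ℤ[X]) : ∏ i ∈ n.properDivisors, f i = ((pd n).map f).prod := by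
  have h : n.properDivisors = (pd n).toFinset := by
    ext i
    simp only [Nat.mem_properDivisors, List.mem_toFinset, pd, List.mem_filter, List.mem_range, Bool.and_eq_true,
      decide_eq_true_eq]
    constructor
    · rintro ⟨h1, h2⟩
      exact ⟨h2, by rintro rfl; exact absurd (Nat.eq_zero_of_zero_dvd h1) (by omega), h1⟩
    · rintro ⟨h1, _, h3⟩
      exact ⟨h3, h1⟩
  have hn : (pd n).Nodup := List.Nodup.filter _ List.nodup_range
  rw [h, List.prod_toFinset f hn]

/-- product of the lists `cycL i` -/
def prodL (L : List ℕ) : List ℤ := L.foldr (fun i p => mulL (cycL i) p) [1]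

theorem ofL_prodL (L : List ℕ) : ofL (prodL L) = (L.map (fun i => ofL (cycL i))).prod := by
  induction L with
  | nil => simp [prodL, ofL]
  | cons i L ih =>
    have : prodL (i :: L) = mulL (cycL i) (prodL L) := rfl
    rw [this, ofL_mulL, ih, List.map_cons, List.prod_cons]

theorem check : ∀ n ∈ idx, 0 < n ∧ (∀ i ∈ pd n, i ∈ idx) ∧
    eqL (mulL (cycL n) (prodL (pd n))) (addL (xpow n) [-1]) = true := by
  decide +kernel

/-- **the cyclotomic polynomials are given by the table** -/
theorem cyclotomic_eq : ∀ n ∈ idx, cyclotomic n ℤ = ofL (cycL n) := by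
  intro n
  induction n using Nat.strong_induction_on with
  | _ n ih =>
    intro hn
    obtain ⟨h0, h1, h2⟩ := check n hn
    symm
    rw [eq_cyclotomic_iff h0, prod_pd]
    have h3 : (pd n).map (fun i => cyclotomic i ℤ) = (pd n).map (fun i => ofL (cycL i)) := by
      apply List.map_congr_left
      intro i hi
      have hi' : i < n := List.mem_range.1 (List.mem_of_mem_filter hi)
      exact ih i hi' (h1 i hi)
    rw [h3, ← ofL_prodL, ← ofL_mulL, ofL_eq_of_eqL h2, ofL_addL, ofL_xpow]
    simp only [ofL, map_neg, map_one]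
    ring

theorem check_len : ∀ n ∈ idx, Nat.totient n + 1 = (cycL n).length := by
  decide +kernel

theorem natDegree_cyclotomic_eq {n : ℕ} (hn : n ∈ idx) :
    (cyclotomic n ℤ).natDegree + 1 = (cycL n).length := by
  rw [natDegree_cyclotomic]
  exact check_len n hn

end Cfsg.Agent.H130.PolyL
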