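import Cfsg.Agent.H130.GLn
set_option linter.all false

/-!
# Sylow subgroups of `SL_n(q)` for large primes (helper130)
-/

set_option autoImplicit false

namespace Cfsg.Agent.H130.SLn

open Cfsg.Agent.H130.Homo Cfsg.Agent.H130.GLn

universe u v

section Torus

variable (F : Type u) [Field F] (n : ℕ)

/-- the diagonal entries `t_1, ..., t_n, (t_1 ... t_n)⁻¹` -/
def ent (t : Fin n → Fˣ) : Fin (n + 1) → F := Fin.snoc (fun i => ((t i : Fˣ) : F)) (((∏ i, t i)⁻¹ : Fˣ) : F)

theorem ent_mul (t s : Fin n → Fˣ) : ent F n (t * s) = ent F n t * ent F n s := by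
  funext i
  refine Fin.lastCases ?_ (fun j => ?_) i
  · simp only [ent, Fin.snoc_last, Pi.mul_apply, Finset.prod_mul_distrib, mul_inv, Units.val_mul]
  · simp only [ent, Fin.snoc_castSucc, Pi.mul_apply, Units.val_mul]

theorem ent_one : ent F n 1 = 1 := by
  funext i
  refine Fin.lastCases ?_ (fun j => ?_) i
  · simp [ent]
  · simp [ent]

theorem prod_ent (t : Fin n → Fˣ) : ∏ i, ent F n t i = 1 := by
  rw [Fin.prod_univ_castSucc]
  simp only [ent, Fin.snoc_castSucc, Fin.snoc_last]
  rw [← Units.coe_prod, ← Units.val_mul, mul_inv_cancel, Units.val_one]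

/-- the diagonal torus of `SL_{n+1}` -/
def torus : (Fin n → Fˣ) →* Matrix.SpecialLinearGroup (Fin (n + 1)) F where
  toFun t := ⟨Matrix.diagonal (ent F n t), by rw [Matrix.det_diagonal, prod_ent]⟩
  map_one' := by
    apply Subtype.ext
    show Matrix.diagonal (ent F n 1) = 1
    rw [ent_one]
    exact Matrix.diagonal_one
  map_mul' t s := by
    apply Subtype.ext
    show Matrix.diagonal (ent F n (t * s)) = Matrix.diagonal (ent F n t) * Matrix.diagonal (ent F n s)
    rw [ent_mul, Matrix.diagonal_mul_diagonal]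
    rfl

theorem torus_injective : Function.Injective (torus F n) := by
  intro t s h
  have h1 : Matrix.diagonal (ent F n t) = Matrix.diagonal (ent F n s) := congrArg Subtype.val h
  have h2 := Matrix.diagonal_injective h1
  funext i
  have h3 := congrFun h2 i.castSucc
  simp only [ent, Fin.snoc_castSucc] at h3
  exact Units.ext h3

end Torus

variable {F : Type u} [Field F] [Fintype F] {q : ℕ} {r : ℕ} [hr : Fact r.Prime]

/-- the order of `SL_n` times `q - 1` is the order of `GL_n` -/
theorem card_SL_mul (hq : Fintype.card F = q) (n : ℕ) (hn : 0 < n) :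
    Nat.card (Matrix.SpecialLinearGroup (Fin n) F) * (q - 1) = Nat.card (Matrix.GeneralLinearGroup (Fin n) F) := by
  classical
  have : Nonempty (Fin n) := ⟨⟨0, hn⟩⟩
  let f : Matrix.GeneralLinearGroup (Fin n) F →* Fˣ := Matrix.GeneralLinearGroup.det
  have hs : Function.Surjective f := by
    intro u
    have hdet : (Matrix.diagonal (Function.update (1 : Fin n → F) ⟨0, hn⟩ (u : F))).det = (u : F) := by
      rw [Matrix.det_diagonal, Finset.prod_update_of_mem (Finset.mem_univ _)]
      simp
    refine ⟨Matrix.GeneralLinearGroup.mkOfDetNeZero (Matrix.diagonal (Function.update (1 : Fin n → F) ⟨0, hn⟩ (u : F)))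
      (by rw [hdet]; exact u.ne_zero), ?_⟩
    apply Units.ext
    exact hdet
  have h1 : Nat.card (Matrix.SpecialLinearGroup (Fin n) F) = Nat.card f.ker := by
    have hr : (Matrix.SpecialLinearGroup.toGL (n := Fin n) (R := F)).range = f.ker := by
      ext g
      constructor
      · rintro ⟨s, rfl⟩
        rw [MonoidHom.mem_ker]
        apply Units.ext
        exact s.2
      · intro hg
        rw [MonoidHom.mem_ker] at hg
        refine ⟨⟨g.1, ?_⟩, ?_⟩
        · exact congrArg Units.val hg
        · apply Units.ext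
          rfl
    rw [← hr]
    exact Nat.card_congr (MonoidHom.ofInjective (f := Matrix.SpecialLinearGroup.toGL (n := Fin n) (R := F))
      Matrix.SpecialLinearGroup.toGL_injective).toEquiv
  have h2 : Nat.card Fˣ = q - 1 := by
    rw [Nat.card_units, Nat.card_eq_fintype_card, hq]
  have h3 := Subgroup.card_mul_index f.ker
  rw [Subgroup.index_ker, MonoidHom.range_eq_top.2 hs, Subgroup.card_top, h2] at h3
  rw [h1, h3]

/-- **Sylow `r`-subgroups of `SL_n(q)`, `r ∤ q - 1`.** -/
theorem sylow_SL_of_ne_one (hq : Fintype.card F = q) (hrq : ¬ r ∣ q) (n : ℕ) (hn0 : 0 < n)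
    (hd : orderOf (q : ZMod r) ≠ 1)
    (hn : ∀ i ∈ Finset.Ioc 0 n, orderOf (q : ZMod r) ∣ i → ¬ r ∣ i)
    (P : Sylow r (Matrix.SpecialLinearGroup (Fin n) F)) :
    Nonempty (↥(P : Subgroup (Matrix.SpecialLinearGroup (Fin n) F)) ≃*
      (Fin (n / orderOf (q : ZMod r)) → Multiplicative (ZMod (r ^ val r q)))) := by
  have hq1 := one_lt_q hq
  have hc := card_SL_mul (F := F) hq n hn0
  have hrq1 : ¬ r ∣ q - 1 := by
    intro h
    have h1 := (dvd_pow_sub_one_iff hrq 1).1 (by rwa [pow_one])
    exact hd (Nat.dvd_one.1 h1)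
  have hfac : (Nat.card (Matrix.SpecialLinearGroup (Fin n) F)).factorization r =
      (Nat.card (Matrix.GeneralLinearGroup (Fin n) F)).factorization r := by
    rw [← hc, Nat.factorization_mul Nat.card_pos.ne' (by omega), Finsupp.add_apply,
      Nat.factorization_eq_zero_of_not_dvd hrq1, add_zero]
  let φ : Matrix.SpecialLinearGroup (Fin n) F →* Matrix.GeneralLinearGroup (Fin n) F := Matrix.SpecialLinearGroup.toGL
  have hφ : Function.Injective φ := Matrix.SpecialLinearGroup.toGL_injective
  let e0 := (P : Subgroup (Matrix.SpecialLinearGroup (Fin n) F)).equivMapOfInjective φ hφ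
  let Q : Sylow r (Matrix.GeneralLinearGroup (Fin n) F) :=
    Sylow.ofCard ((P : Subgroup (Matrix.SpecialLinearGroup (Fin n) F)).map φ) (by
      rw [← hfac, ← Sylow.card_eq_multiplicity P]
      exact Nat.card_congr e0.toEquiv.symm)
  obtain ⟨e⟩ := sylow_GL hq hrq n hn Q
  exact ⟨e0.trans e⟩

/-- **Sylow `r`-subgroups of `SL_n(q)`, `r ∣ q - 1`.** -/
theorem sylow_SL_of_eq_one (hq : Fintype.card F = q) (hrq : ¬ r ∣ q) (n : ℕ)
    (hd : orderOf (q : ZMod r) = 1)
    (hn : ∀ i ∈ Finset.Ioc 0 (n + 1), orderOf (q : ZMod r) ∣ i → ¬ r ∣ i)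
    (P : Sylow r (Matrix.SpecialLinearGroup (Fin (n + 1)) F)) :
    Nonempty (↥(P : Subgroup (Matrix.SpecialLinearGroup (Fin (n + 1)) F)) ≃*
      (Fin n → Multiplicative (ZMod (r ^ val r q)))) := by
  have hq1 := one_lt_q hq
  have hc := card_SL_mul (F := F) hq (n + 1) (Nat.succ_pos n)
  have hv : (q - 1).factorization r = val r q := by
    rw [Nat.factorization_def _ hr.out]
    have := val_pow_orderOf hrq hq1
    rwa [hd, pow_one] at this
  have hfac : (Nat.card (Matrix.SpecialLinearGroup (Fin (n + 1)) F)).factorization r = n * val r q := by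
    have h1 := val_GL (F := F) hq hrq (n + 1) hn
    rw [← hc, Nat.factorization_mul Nat.card_pos.ne' (by omega), Finsupp.add_apply, hv, hd, Nat.div_one,
      add_mul, one_mul] at h1
    omega
  obtain ⟨f, hf⟩ := exists_hom_cyclic (C := Fˣ) (N := r ^ val r q) (by
    rw [Nat.card_units, Nat.card_eq_fintype_card, hq]
    have := pow_val_dvd (r := r) hrq hq1
    rwa [hd, pow_one] at this)
  refine sylow_equiv_of_hom ((torus F n).comp (MonoidHom.piMap (fun _ => f))) ?_ (by rw [card_model, hfac]) P
  apply (torus_injective F n).comp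
  intro x y h
  funext i
  exact hf (congrFun h i)

end Cfsg.Agent.H130.SLn
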